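import Groth.Prelude.Def_QCohCat
import Groth.Prelude.Def_CohB1
import Groth.Agent.QCoh.DevissageSum
import Groth.Agent.QCoh.Serre
import Mathlib

/-!
# The abelian categories of quasi-coherent and of coherent modules
-/

set_option autoImplicit false

universe u v u'

open CategoryTheory CategoryTheory.Limits AlgebraicGeometry

namespace Groth.Agent.QCohAb92

open Groth.Agent.QCoh

variable (X : Scheme.{u})

attribute [local instance] Groth.Agent.QCoh.hasFiniteBiproducts

instance : (QCohCat.isQCoh X).IsClosedUnderIsomorphisms where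
  of_iso e h := (isQCoh_iff_iso e).1 h

instance : (QCohCat.isQCoh X).ContainsZero :=
  ⟨_, isZero_zero _, isQCoh_of_isZero (isZero_zero X.Modules)⟩

instance : (QCohCat.isQCoh X).IsClosedUnderKernels where
  kernels_le := by
    intro K hK
    obtain ⟨f, k, hk, ⟨hX, hY⟩⟩ := hK
    exact (isQCoh_iff_iso (IsLimit.conePointUniqueUpToIso (kernelIsKernel f) hk)).1
      (isQCoh_kernel hX hY f)

instance : (QCohCat.isQCoh X).IsClosedUnderCokernels where
  cokernels_le := by
    intro K hK
    obtain ⟨f, k, hk, ⟨hX, hY⟩⟩ := hK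
    exact (isQCoh_iff_iso (IsColimit.coconePointUniqueUpToIso (cokernelIsCokernel f) hk)).1
      (isQCoh_cokernel hX hY f)

instance (J : Type u) [SmallCategory J] : (QCohCat.isQCoh X).IsClosedUnderColimitsOfShape J :=
  .mk' <| by
    rintro _ ⟨F, hF⟩
    exact isQCoh_colimit F hF

instance : (QCohCat.isQCoh X).IsClosedUnderFiniteProducts :=
  .of_isClosedUnderLimitsOfShape.{u} fun J _ => .mk' <| by
    rintro _ ⟨F, hF⟩
    haveI := Fintype.ofFinite J
    let f : J → X.Modules := fun j => F.obj ⟨j⟩
    let e : limit F ≅ ∐ f :=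
      lim.mapIso Discrete.natIsoFunctor ≪≫ (biproduct.isoProduct f).symm ≪≫ biproduct.isoCoproduct f
    exact (isQCoh_iff_iso e.symm).1 (isQCoh_colimit _ fun j => hF ⟨j.as⟩)

instance : (QCohCat.isQCoh X).ι.PreservesMonomorphisms :=
  (QCohCat.isQCoh X).preservesMonomorphisms_ι_of_isNormalEpiCategory

instance : (QCohCat.isQCoh X).ι.PreservesEpimorphisms :=
  (QCohCat.isQCoh X).preservesEpimorphisms_ι_of_isNormalMonoCategory

instance : PreservesFiniteLimits (QCohCat.isQCoh X).ι :=
  haveI : ∀ {A B : QCohCat.QCoh X} (f : A ⟶ B), PreservesLimit (parallelPair f 0) (QCohCat.isQCoh X).ι :=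
    fun f => (QCohCat.isQCoh X).preservesKernels_ι f
  Functor.preservesFiniteLimits_of_preservesKernels _

instance : PreservesFiniteColimits (QCohCat.isQCoh X).ι :=
  haveI : ∀ {A B : QCohCat.QCoh X} (f : A ⟶ B), PreservesColimit (parallelPair f 0) (QCohCat.isQCoh X).ι :=
    fun f => (QCohCat.isQCoh X).preservesCokernels_ι f
  Functor.preservesFiniteColimits_of_preservesCokernels _

noncomputable example : Abelian (QCohCat.QCoh X) := inferInstance

/-- The property of being coherent. -/
abbrev cohP : ObjectProperty X.Modules := fun M => Coh.IsCoh M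

theorem isCoh_of_iso' {X : Scheme.{u}} {M N : X.Modules} (e : M ≅ N) (h : Coh.IsCoh M) : Coh.IsCoh N :=
  isCoh_of_epi e.hom h ((isQCoh_iff_iso e).1 h.1)

instance : (cohP X).IsClosedUnderIsomorphisms where
  of_iso e h := isCoh_of_iso' e h

section Noetherian

variable [IsNoetherian X]

theorem isCoh_isZero' {Z : X.Modules} (h : IsZero Z) : Coh.IsCoh Z :=
  haveI : Mono (0 : Z ⟶ Coh.structureModule X) := ⟨fun _ _ _ => h.eq_of_tgt _ _⟩
  isCoh_of_mono (0 : Z ⟶ Coh.structureModule X) isCoh_structureModule' (isQCoh_of_isZero h)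

instance : (cohP X).ContainsZero := ⟨_, isZero_zero _, isCoh_isZero' X (isZero_zero X.Modules)⟩

instance : (cohP X).IsClosedUnderKernels where
  kernels_le := by
    intro K hK
    obtain ⟨f, k, hk, ⟨hX, hY⟩⟩ := hK
    exact isCoh_of_iso' (IsLimit.conePointUniqueUpToIso (kernelIsKernel f) hk) (isCoh_kernel hX hY f)

instance : (cohP X).IsClosedUnderCokernels where
  cokernels_le := by
    intro K hK
    obtain ⟨f, k, hk, ⟨hX, hY⟩⟩ := hK
    exact isCoh_of_iso' (IsColimit.coconePointUniqueUpToIso (cokernelIsCokernel f) hk)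
      (isCoh_cokernel hX.1 hY f)

instance : (cohP X).IsClosedUnderFiniteProducts :=
  .of_isClosedUnderLimitsOfShape.{u} fun J _ => .mk' <| by
    rintro _ ⟨F, hF⟩
    haveI := Fintype.ofFinite J
    let f : J → X.Modules := fun j => F.obj ⟨j⟩
    exact isCoh_of_iso' ((biproduct.isoProduct f) ≪≫ (lim.mapIso Discrete.natIsoFunctor).symm)
      (isCoh_biproduct f fun j => hF ⟨j⟩)

instance : PreservesFiniteLimits (cohP X).ι :=
  haveI : ∀ {A B : (cohP X).FullSubcategory} (f : A ⟶ B), PreservesLimit (parallelPair f 0) (cohP X).ι :=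
    fun f => (cohP X).preservesKernels_ι f
  Functor.preservesFiniteLimits_of_preservesKernels _

instance : PreservesFiniteColimits (cohP X).ι :=
  haveI : ∀ {A B : (cohP X).FullSubcategory} (f : A ⟶ B), PreservesColimit (parallelPair f 0) (cohP X).ι :=
    fun f => (cohP X).preservesCokernels_ι f
  Functor.preservesFiniteColimits_of_preservesCokernels _

noncomputable example : Abelian (ObjectProperty.FullSubcategory (fun M : X.Modules => Coh.IsCoh M)) :=
  inferInstance

end Noetherian

end Groth.Agent.QCohAb92
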