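import Groth.Agent.QCohAb92.Gabber
import Groth.Agent.QCoh.FT
import Groth.Agent.QCoh.SubCompare
import Groth.Agent.SiteBase.ModGroth

/-!
# Quasi-coherent modules on any scheme form a Grothendieck abelian category; the coherator
-/

set_option autoImplicit false

universe u

open CategoryTheory CategoryTheory.Limits AlgebraicGeometry TopologicalSpace Opposite

namespace Groth.Agent.QCohAb92

open Groth.Agent.QCoh

variable (X : Scheme.{u})

theorem isGrothendieckAbelian_modules : IsGrothendieckAbelian.{u} X.Modules :=
  Groth.Agent.SiteBase.isGrothendieckAbelian_sheafOfModules X.ringCatSheaf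

/-- The free module indexed by the generators on a chosen affine open. -/
abbrev FreeGen (i : X) : Type u := Gen X i →₀ Γ(X, aff X i)

/-- The ambient module attached to a family of relation modules. -/
noncomputable def ambient (c : ∀ i : X, Submodule Γ(X, aff X i) (FreeGen X i)) : X.Modules :=
  ∏ᶜ fun i : X => (Scheme.Modules.pushforward (isAffineOpen_aff i).fromSpec).obj
    (tilde (ModuleCat.of Γ(X, aff X i) (FreeGen X i ⧸ c i)))

variable {X}

theorem exists_mono_ambient {M : X.Modules} (hM : Coh.IsQCoh M) (s : ∀ i : X, Γ(M, aff X i)) :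
    ∃ (c : ∀ i : X, Submodule Γ(X, aff X i) (FreeGen X i))
      (φ : (gabberSub hM s).toModules ⟶ ambient X c), Mono φ := by
  set N := gabberSub hM s
  have hN : Coh.IsQCoh N.toModules := isQCoh_gabberSub hM s
  have hlift : ∀ (i : X) (a : Gen X i), ∃ n, N.ι.app (aff X i) n = val hM s a := fun i a =>
    N.exists_app_eq (mem_gabberSub_of_spanSub hM s le_rfl (mem_spanSub ⟨a, rfl⟩))
  choose n hn using hlift
  let π : ∀ i : X, FreeGen X i →ₗ[Γ(X, aff X i)] Γ(N.toModules, aff X i) := fun i =>
    Finsupp.linearCombination _ (n i)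
  have hπ : ∀ i, Function.Surjective (π i) := fun i t => by
    have h1 := mem_span_of_gabberSub hM s (isAffineOpen_aff i) le_rfl (N.ι_app_mem _ t)
    rw [show rs M (le_rfl : aff X i ≤ aff X i) '' genSet hM s i = appLin N.ι (aff X i) '' Set.range (n i) by
      rw [Set.image_congr (g := id) (fun a _ => rs_self _ a), Set.image_id, ← Set.range_comp]
      exact congrArg Set.range (funext fun a => (hn i a).symm),
      ← Submodule.map_span] at h1
    obtain ⟨w, hw, hwt⟩ := h1
    rw [← Finsupp.range_linearCombination] at hw
    obtain ⟨r, rfl⟩ := hw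
    exact ⟨r, N.ι_app_injective _ hwt⟩
  let e : ∀ i : X, (N.toModules.restrict (isAffineOpen_aff i).fromSpec) ≅
      tilde (ModuleCat.of Γ(X, aff X i) (FreeGen X i ⧸ LinearMap.ker (π i))) := fun i =>
    haveI : IsIso (N.toModules.restrict (isAffineOpen_aff i).fromSpec).fromTildeΓ :=
      (isQuasicoherent_iff_isIso_fromTildeΓ _).1 (isQCoh_restrict _ hN)
    (asIso (N.toModules.restrict (isAffineOpen_aff i).fromSpec).fromTildeΓ).symm ≪≫
      (tilde.functor _).mapIso (LinearEquiv.toModuleIso
        ((chartEquiv (isAffineOpen_aff i) N.toModules).symm ≪≫ₗ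
          (LinearMap.quotKerEquivOfSurjective (π i) (hπ i)).symm))
  refine ⟨fun i => LinearMap.ker (π i), Pi.lift fun i =>
    (Scheme.Modules.restrictAdjunction (isAffineOpen_aff i).fromSpec).unit.app N.toModules ≫
      (Scheme.Modules.pushforward (isAffineOpen_aff i).fromSpec).map (e i).hom, ?_⟩
  refine mono_of_app_injective _ fun O => (injective_iff_map_eq_zero _).2 fun t ht => ?_
  refine eq_zero_of_locally O t fun x hx => ?_
  have hf : ((Scheme.Modules.restrictAdjunction (isAffineOpen_aff x).fromSpec).unit.app N.toModules ≫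
      (Scheme.Modules.pushforward (isAffineOpen_aff x).fromSpec).map (e x).hom).app O t = 0 := by
    rw [← Pi.lift_π (fun i => (Scheme.Modules.restrictAdjunction (isAffineOpen_aff i).fromSpec).unit.app
      N.toModules ≫ (Scheme.Modules.pushforward (isAffineOpen_aff i).fromSpec).map (e i).hom) x]
    exact (congrArg ((Pi.π _ x : ambient X _ ⟶ _).app O) ht).trans (map_zero _)
  have h1 : ((Scheme.Modules.restrictAdjunction (isAffineOpen_aff x).fromSpec).unit.app N.toModules).app O t = 0 :=
    app_injective ((Scheme.Modules.pushforward (isAffineOpen_aff x).fromSpec).map (e x).hom) O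
      (hf.trans (map_zero _).symm)
  rw [Scheme.Modules.restrictAdjunction_unit_app_app] at h1
  exact ⟨_, homOfLE ((isAffineOpen_aff x).fromSpec.image_preimage_le O),
    by rw [Scheme.Hom.image_preimage_eq_opensRange_inf, (isAffineOpen_aff x).opensRange_fromSpec]
       exact ⟨mem_aff x, hx⟩, h1⟩

variable (X)

/-- The index type of a small separating family of quasi-coherent modules. -/
def SepIndex : Type u :=
  haveI := isGrothendieckAbelian_modules X
  Σ c : ∀ i : X, Submodule Γ(X, aff X i) (FreeGen X i),
    { p : Shrink.{u} (Subobject (ambient X c)) //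
      Coh.IsQCoh (Subobject.underlying.obj ((equivShrink (Subobject (ambient X c))).symm p)) }

/-- A small separating family of quasi-coherent modules. -/
noncomputable def sepObj (k : SepIndex X) : QCohCat.QCoh X :=
  haveI := isGrothendieckAbelian_modules X
  ⟨Subobject.underlying.obj ((equivShrink (Subobject (ambient X k.1))).symm k.2.1), k.2.2⟩

theorem isSeparating_sepObj : ObjectProperty.IsSeparating (.ofObj (sepObj X)) := by
  haveI := isGrothendieckAbelian_modules X
  intro M M' f g h
  refine InducedCategory.hom_ext (sub_eq_zero.1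
    (hom_eq_zero_of_cover M.property M'.property (f.hom - g.hom) (aff X) isAffineOpen_aff
      (fun x => ⟨x, mem_aff x⟩) fun i m => ?_))
  classical
  let s : ∀ j : X, Γ(M.obj, aff X j) := Function.update (fun _ => 0) i m
  obtain ⟨c, φ, hφ⟩ := exists_mono_ambient M.property s
  haveI := hφ
  let p := equivShrink _ (Subobject.mk φ)
  have e : Subobject.underlying.obj ((equivShrink (Subobject (ambient X c))).symm p) ≅ (gabberSub M.property s).toModules :=
    eqToIso (congrArg Subobject.underlying.obj ((equivShrink _).symm_apply_apply _)) ≪≫ Subobject.underlyingIso φ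
  have hp : Coh.IsQCoh (Subobject.underlying.obj ((equivShrink (Subobject (ambient X c))).symm p)) :=
    (isQCoh_iff_iso e).2 (isQCoh_gabberSub M.property s)
  let k : SepIndex X := ⟨c, p, hp⟩
  let ψ : sepObj X k ⟶ M := ObjectProperty.homMk (show (sepObj X k).obj ⟶ M.obj from e.hom ≫ (gabberSub M.property s).ι)
  have hh : ψ ≫ f = ψ ≫ g := h (sepObj X k) (ObjectProperty.ofObj_apply _ k) ψ
  have hh' : (gabberSub M.property s).ι ≫ f.hom = (gabberSub M.property s).ι ≫ g.hom :=
    (cancel_epi e.hom).1 ((Category.assoc _ _ _).symm.trans ((congrArg InducedCategory.Hom.hom hh).trans (Category.assoc _ _ _)))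
  have hm := seed_mem M.property s i
  obtain ⟨n, hn⟩ := (gabberSub M.property s).exists_app_eq hm
  have hsi : s i = m := by simp [s]
  rw [← hsi, ← hn]
  exact sub_eq_zero.2 (congr(($hh').app (aff X i) n))

/-- Quasi-coherent modules form a Grothendieck abelian category. -/
theorem isGrothendieckAbelian_qcoh : IsGrothendieckAbelian.{u} (QCohCat.QCoh X) := by
  haveI := isGrothendieckAbelian_modules X
  haveI hcol : HasColimitsOfSize.{u, u} (QCohCat.QCoh X) := ⟨fun J _ => inferInstance⟩
  exact
    { locallySmall := inferInstance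
      hasFilteredColimitsOfSize := ⟨fun J _ _ => inferInstance⟩
      ab5OfSize := ⟨fun J _ _ =>
        HasExactColimitsOfShape.domain_of_functor J (QCohCat.isQCoh X).ι⟩
      hasSeparator := ⟨∐ sepObj X, (isSeparator_sigma _).2 (isSeparating_sepObj X)⟩ }

theorem preservesColimits_ι : PreservesColimitsOfSize.{u, u} (QCohCat.isQCoh X).ι :=
  ⟨fun {_} _ => inferInstance⟩

theorem isLeftAdjoint_of_preservesColimits {A : Type*} [Category.{u} A]
    (F : QCohCat.QCoh X ⥤ A) [PreservesColimitsOfSize.{u, u} F] : F.IsLeftAdjoint := by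
  haveI := isGrothendieckAbelian_qcoh X
  haveI : HasColimitsOfSize.{u, u} (QCohCat.QCoh X) := IsGrothendieckAbelian.hasColimits.{u} _
  exact isLeftAdjoint_of_preservesColimits_of_isSeparating (isSeparator_separator (QCohCat.QCoh X)) F

theorem isLeftAdjoint_ι : (QCohCat.isQCoh X).ι.IsLeftAdjoint :=
  haveI := preservesColimits_ι X
  isLeftAdjoint_of_preservesColimits X _

theorem enoughInjectives_qcoh : EnoughInjectives (QCohCat.QCoh X) :=
  haveI := isGrothendieckAbelian_qcoh X
  inferInstance

end Groth.Agent.QCohAb92
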