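import Groth.Agent.QCohAb92.Abelian
import Groth.Agent.QCoh.ExtendFT
import Groth.Agent.CohGab92.Basic

/-!
# Restriction of quasi-coherent modules to an open as a localization
-/

set_option autoImplicit false

universe u

open CategoryTheory CategoryTheory.Limits AlgebraicGeometry TopologicalSpace Opposite

namespace Groth.Agent.QCohAb92

open Groth.Agent.QCoh

variable {X : Scheme.{u}}

theorem isZero_restrict_iff {K : X.Modules} (hK : Coh.IsQCoh K) (U : X.Opens) :
    IsZero ((Scheme.Modules.restrictFunctor U.ι).obj K) ↔ CohB1.support K ⊆ (U : Set X)ᶜ := by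
  constructor
  · intro h x hx hxU
    obtain ⟨_, ⟨V, hV, rfl⟩, hxV, hVU⟩ := X.isBasis_affineOpens.exists_subset_of_mem_open hxU U.2
    have hUV : V ≤ U.ι ''ᵁ (U.ι ⁻¹ᵁ V) := fun y hy => ⟨⟨y, hVU hy⟩, hy, rfl⟩
    refine (notMem_support_iff hK hV hxV).2 (fun m => ⟨1, ?_, ?_⟩) hx
    · rw [Scheme.basicOpen_of_isUnit _ isUnit_one]; exact hxV
    · rw [one_smul]
      have h0 : (show Γ(K.restrict U.ι, U.ι ⁻¹ᵁ V) from
          K.presheaf.map (homOfLE (U.ι.image_preimage_le V)).op m) = 0 :=
        congr(($(h.eq_of_src (𝟙 _) 0)).app (U.ι ⁻¹ᵁ V)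
          (show Γ(K.restrict U.ι, U.ι ⁻¹ᵁ V) from K.presheaf.map (homOfLE (U.ι.image_preimage_le V)).op m))
      have h1 := congrArg (K.presheaf.map (homOfLE hUV).op) h0
      exact (map_id' (M := K) (homOfLE le_rfl) m).symm.trans
        ((map_map (M := K) (homOfLE hUV) (homOfLE (U.ι.image_preimage_le V)) m).symm.trans (h1.trans (map_zero (K.presheaf.map (homOfLE hUV).op).hom)))
  · intro h
    refine isZero_of_cover (isQCoh_restrict U.ι hK)
      (fun W : (U : Scheme.{u}).affineOpens => W.1) (fun W => W.2) (fun x => ?_) (fun W => ⟨fun a b => ?_⟩)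
    · obtain ⟨W, hW, hxW⟩ := exists_affine_mem x
      exact ⟨⟨W, hW⟩, hxW⟩
    · suffices H : ∀ c : Γ(K, U.ι ''ᵁ W.1), c = 0 from (H a).trans (H b).symm
      intro c
      have hA : IsAffineOpen (U.ι ''ᵁ W.1) := W.2.image_of_isOpenImmersion U.ι
      refine eq_zero_of_locally _ c fun x hx => ?_
      have hxU : x ∈ U := by
        obtain ⟨y, -, rfl⟩ := hx
        exact y.2
      obtain ⟨r, hr, hr0⟩ := (notMem_support_iff hK hA hx).1 (fun hn => h hn hxU) c
      exact ⟨X.basicOpen r, homOfLE (X.basicOpen_le r), hr,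
        res_eq_zero_of_smul_eq_zero (X.basicOpen_le r) r le_rfl c hr0⟩

theorem isIso_restrict_iff {A B : X.Modules} (f : A ⟶ B) (hA : Coh.IsQCoh A) (hB : Coh.IsQCoh B)
    (U : X.Opens) :
    IsIso ((Scheme.Modules.restrictFunctor U.ι).map f) ↔
      CohB1.support (kernel f) ⊆ (U : Set X)ᶜ ∧ CohB1.support (cokernel f) ⊆ (U : Set X)ᶜ := by
  rw [← isZero_restrict_iff (isQCoh_kernel hA hB f) U, ← isZero_restrict_iff (isQCoh_cokernel hA hB f) U]
  constructor
  · intro hf
    exact ⟨KernelFork.IsLimit.isZero_of_mono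
        (KernelFork.mapIsLimit _ (kernelIsKernel f) (Scheme.Modules.restrictFunctor U.ι)),
      CokernelCofork.IsColimit.isZero_of_epi
        (CokernelCofork.mapIsColimit _ (cokernelIsCokernel f) (Scheme.Modules.restrictFunctor U.ι))⟩
  · intro ⟨h₁, h₂⟩
    have := Preadditive.mono_of_isZero_kernel ((Scheme.Modules.restrictFunctor U.ι).map f)
      (h₁.of_iso (PreservesKernel.iso (Scheme.Modules.restrictFunctor U.ι) f).symm)
    have := Preadditive.epi_of_isZero_cokernel ((Scheme.Modules.restrictFunctor U.ι).map f)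
      (h₂.of_iso (PreservesCokernel.iso (Scheme.Modules.restrictFunctor U.ι) f).symm)
    exact isIso_of_mono_of_epi _

/-- The restriction functor on quasi-coherent modules. -/
noncomputable abbrev resQ (U : X.Opens) : QCohCat.QCoh X ⥤ QCohCat.QCoh (U : Scheme.{u}) :=
  ObjectProperty.lift (QCohCat.isQCoh (U : Scheme.{u}))
    (ObjectProperty.ι (QCohCat.isQCoh X) ⋙ Scheme.Modules.restrictFunctor U.ι)
    (fun M => @Scheme.Modules.isQuasicoherent_restrictFunctor (U : Scheme.{u}) X U.ι
      inferInstance M.obj M.property)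

/-- The direct image functor on quasi-coherent modules. -/
noncomputable abbrev pushQ (U : X.Opens) [QuasiCompact U.ι] :
    QCohCat.QCoh (U : Scheme.{u}) ⥤ QCohCat.QCoh X :=
  ObjectProperty.lift (QCohCat.isQCoh X)
    (ObjectProperty.ι (QCohCat.isQCoh (U : Scheme.{u})) ⋙ Scheme.Modules.pushforward U.ι)
    (fun M => isQCoh_pushforward U.ι M.property)

/-- Restriction is left adjoint to the direct image. -/
noncomputable def resPushAdj (U : X.Opens) [QuasiCompact U.ι] : resQ U ⊣ pushQ U :=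
  (Scheme.Modules.restrictAdjunction U.ι).restrictFullyFaithful
    (QCohCat.isQCoh X).fullyFaithfulι (QCohCat.isQCoh (U : Scheme.{u})).fullyFaithfulι
    (Iso.refl _) (Iso.refl _)

theorem faithful_pushQ (U : X.Opens) [QuasiCompact U.ι] : (pushQ U).Faithful :=
  Functor.Faithful.of_comp_iso (G := (QCohCat.isQCoh X).ι)
    (H := (QCohCat.isQCoh (U : Scheme.{u})).ι ⋙ Scheme.Modules.pushforward U.ι) (Iso.refl _)

theorem full_pushQ (U : X.Opens) [QuasiCompact U.ι] : (pushQ U).Full :=
  haveI := faithful_pushQ U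
  Functor.Full.of_comp_faithful_iso (G := (QCohCat.isQCoh X).ι)
    (H := (QCohCat.isQCoh (U : Scheme.{u})).ι ⋙ Scheme.Modules.pushforward U.ι) (Iso.refl _)

theorem inverseImage_isomorphisms_resQ (U : X.Opens) :
    (MorphismProperty.isomorphisms (QCohCat.QCoh (U : Scheme.{u}))).inverseImage (resQ U) =
      fun (A B : QCohCat.QCoh X) (f : A ⟶ B) =>
        CohB1.support (kernel f.hom) ⊆ (↑U : Set X)ᶜ ∧
          CohB1.support (cokernel f.hom) ⊆ (↑U : Set X)ᶜ := by
  ext A B f
  refine Iff.trans ?_ (isIso_restrict_iff f.hom A.property B.property U)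
  exact ⟨fun h => @Functor.map_isIso _ _ _ _ _ _ (QCohCat.isQCoh (U : Scheme.{u})).ι ((resQ U).map f) h,
    fun h => @isIso_of_reflects_iso _ _ _ _ _ _ ((resQ U).map f) (QCohCat.isQCoh (U : Scheme.{u})).ι h _⟩

theorem isLocalization_resQ (U : X.Opens) [QuasiCompact U.ι] :
    (resQ U).IsLocalization (fun (A B : QCohCat.QCoh X) (f : A ⟶ B) =>
      CohB1.support (kernel f.hom) ⊆ (↑U : Set X)ᶜ ∧
        CohB1.support (cokernel f.hom) ⊆ (↑U : Set X)ᶜ) := by
  rw [← inverseImage_isomorphisms_resQ]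
  haveI := faithful_pushQ U
  haveI := full_pushQ U
  exact (resPushAdj U).isLocalization

end Groth.Agent.QCohAb92
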