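import Groth.Agent.QCohAb92.Abelian
import Groth.Agent.QCoh.ExtendFT
import Groth.Agent.QCoh.SubCompare

/-!
# Noetherian objects of the category of quasi-coherent modules
-/

set_option autoImplicit false

universe u

open CategoryTheory CategoryTheory.Limits AlgebraicGeometry TopologicalSpace Opposite

namespace Groth.Agent.QCohAb92

open Groth.Agent.QCoh

attribute [local instance] Groth.Agent.QCoh.hasFiniteBiproducts

variable {X : Scheme.{u}} {M : QCohCat.QCoh X}

instance mono_arrow_hom (S : Subobject M) : Mono S.arrow.hom :=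
  inferInstanceAs (Mono ((QCohCat.isQCoh X).ι.map S.arrow))

/-- The sections of a subobject over an open. -/
noncomputable def secRange (S : Subobject M) (U : X.Opens) : Submodule Γ(X, U) Γ(M.obj, U) :=
  LinearMap.range (appLin S.arrow.hom U)

theorem secRange_mono {S T : Subobject M} (h : S ≤ T) (U : X.Opens) : secRange S U ≤ secRange T U := by
  have e : S.arrow.hom = (Subobject.ofLE S T h).hom ≫ T.arrow.hom :=
    (congrArg InducedCategory.Hom.hom (Subobject.ofLE_arrow h)).symm
  rw [secRange, e, appLin_comp]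
  exact LinearMap.range_comp_le_range _ _

theorem le_of_secRange {κ : Type*} (U : κ → X.Opens) (haff : ∀ k, IsAffineOpen (U k))
    (hU : ∀ x : X, ∃ k, x ∈ U k) {S T : Subobject M} (h : ∀ k, secRange S (U k) ≤ secRange T (U k)) :
    S ≤ T := by
  have h1 := subobject_le_of_cover (S : QCohCat.QCoh X).property (T : QCohCat.QCoh X).property M.property
    S.arrow.hom T.arrow.hom U haff hU h
  exact Subobject.le_of_comm (ObjectProperty.homMk (Subobject.ofMkLEMk _ _ h1))
    (InducedCategory.hom_ext (Subobject.ofMkLEMk_comp h1))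

theorem wellFoundedGT_subobject [IsNoetherian X] (hM : Coh.IsCoh M.obj) :
    WellFoundedGT (Subobject M) := by
  classical
  obtain ⟨s, hs⟩ := isCompact_univ.elim_finite_subcover (fun V : X.affineOpens => (V.1 : Set X))
    (fun V => V.1.2) fun x _ => by
      obtain ⟨U, hU, hxU⟩ := exists_affine_mem x
      exact Set.mem_iUnion.2 ⟨⟨U, hU⟩, hxU⟩
  have hcov : ∀ x : X, ∃ k : s, x ∈ k.1.1 := fun x => by
    obtain ⟨k, hk, hx⟩ := Set.mem_iUnion₂.1 (hs (Set.mem_univ x))
    exact ⟨⟨k, hk⟩, hx⟩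
  haveI : ∀ k : s, IsNoetherianRing Γ(X, k.1.1) := fun k => noetherian_sections k.1
  haveI : ∀ k : s, Module.Finite Γ(X, k.1.1) Γ(M.obj, k.1.1) := fun k => finite_sections hM k.1.2
  haveI : ∀ k : s, WellFoundedGT (Submodule Γ(X, k.1.1) Γ(M.obj, k.1.1)) := fun k =>
    (isNoetherian_iff'.1 (inferInstance : IsNoetherian Γ(X, k.1.1) Γ(M.obj, k.1.1)))
  haveI : WellFoundedGT ((k : s) → Submodule Γ(X, k.1.1) Γ(M.obj, k.1.1)) :=
    ⟨(Pi.wellFoundedLT (α := fun k : s => (Submodule Γ(X, k.1.1) Γ(M.obj, k.1.1))ᵒᵈ)).wf⟩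
  have hmono : StrictMono (fun (S : Subobject M) (k : s) => secRange S k.1.1) := fun S T h =>
    lt_of_le_not_ge (fun k => secRange_mono h.le _)
      fun hle => h.not_ge (le_of_secRange (fun k : s => k.1.1) (fun k => k.1.2) hcov hle)
  exact hmono.wellFoundedGT

theorem isCoh_of_wellFoundedGT [IsNoetherian X] [hw : WellFoundedGT (Subobject M)] :
    Coh.IsCoh M.obj := by
  refine isCoh_iff.2 ⟨M.property, fun U => ?_⟩
  let P : Set (Subobject M) := {S | Coh.IsCoh (S : QCohCat.QCoh X).obj}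
  haveI : Mono (0 : (⟨_, isQCoh_of_isZero (isZero_zero X.Modules)⟩ : QCohCat.QCoh X) ⟶ M) :=
    ⟨fun _ _ _ => InducedCategory.hom_ext ((isZero_zero X.Modules).eq_of_tgt _ _)⟩
  have hne : P.Nonempty :=
    ⟨Subobject.mk (0 : (⟨_, isQCoh_of_isZero (isZero_zero X.Modules)⟩ : QCohCat.QCoh X) ⟶ M),
      isCoh_of_iso' ((QCohCat.isQCoh X).ι.mapIso (Subobject.underlyingIso
        (0 : (⟨_, isQCoh_of_isZero (isZero_zero X.Modules)⟩ : QCohCat.QCoh X) ⟶ M))).symm
        (isCoh_isZero' X (isZero_zero X.Modules))⟩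
  obtain ⟨m, hm, hmax⟩ := hw.wf.has_min P hne
  suffices H : secRange m U.1 = ⊤ by
    haveI := finite_sections hm U.2
    exact Module.Finite.of_surjective (appLin m.arrow.hom U.1) (LinearMap.range_eq_top.1 H)
  refine eq_top_iff.2 fun t _ => ?_
  obtain ⟨N, hN, hNt⟩ := exists_ftOn_contains M.property U.2
    (extStep_noetherian (fun x => ⟨⊤, trivial, (Topology.IsInducing.subtypeVal).noetherianSpace⟩) _)
    {t} (Set.finite_singleton t)
  obtain ⟨n, hn⟩ := N.exists_app_eq (hNt rfl)
  let T : ULift.{u} Bool → X.Modules := fun b => bif b.down then (m : QCohCat.QCoh X).obj else N.toModules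
  have hT : ∀ b, Coh.IsCoh (T b) := fun ⟨b⟩ => by
    cases b
    exacts [⟨isQCoh_of_ftOn M.property hN, isFT_of_ftOn M.property hN⟩, hm]
  let d : ⨁ T ⟶ M.obj := biproduct.desc (fun b => match b with | ⟨true⟩ => m.arrow.hom | ⟨false⟩ => N.ι)
  have hI : Coh.IsCoh (Abelian.coimage d) := isCoh_cokernel
    (isQCoh_kernel (isCoh_biproduct T hT).1 M.property d) (isCoh_biproduct T hT) _
  let I : QCohCat.QCoh X := ⟨Abelian.coimage d, hI.1⟩
  let ι : I ⟶ M := ObjectProperty.homMk (Abelian.factorThruCoimage d)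
  haveI : Mono ι := (QCohCat.isQCoh X).ι.mono_of_mono_map
    (inferInstanceAs (Mono (Abelian.factorThruCoimage d)))
  let S : Subobject M := Subobject.mk ι
  have hSP : S ∈ P := isCoh_of_iso' ((QCohCat.isQCoh X).ι.mapIso (Subobject.underlyingIso ι)).symm hI
  have hle : m ≤ S := Subobject.le_mk_of_comm (ObjectProperty.homMk (biproduct.ι T ⟨true⟩ ≫ Abelian.coimage.π d))
    (InducedCategory.hom_ext ((Category.assoc _ _ _).trans
      ((congrArg (biproduct.ι T ⟨true⟩ ≫ ·) (Abelian.coimage.fac d)).trans (biproduct.ι_desc _ _))))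
  have heq : m = S := hle.antisymm (by
    by_contra h
    exact hmax S hSP (lt_of_le_not_ge hle h))
  rw [heq]
  have he : ι.hom = (Subobject.underlyingIso ι).inv.hom ≫ S.arrow.hom :=
    (congrArg InducedCategory.Hom.hom (Subobject.underlyingIso_arrow ι)).symm
  refine ⟨(Subobject.underlyingIso ι).inv.hom.app U.1
    ((Abelian.coimage.π d).app U.1 ((biproduct.ι T ⟨false⟩).app U.1 n)), ?_⟩
  refine (congr(($he).app U.1 _)).symm.trans ?_
  refine (congr(($(Abelian.coimage.fac d)).app U.1 ((biproduct.ι T ⟨false⟩).app U.1 n))).trans ?_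
  exact (congr(($(biproduct.ι_desc (f := T) (fun b => match b with | ⟨true⟩ => m.arrow.hom | ⟨false⟩ => N.ι) ⟨false⟩)).app U.1 n)).trans hn

theorem isNoetherianObject_iff_isCoh [IsNoetherian X] (M : QCohCat.QCoh X) :
    IsNoetherianObject M ↔ Coh.IsCoh M.obj :=
  ⟨fun h => isCoh_of_wellFoundedGT (hw := isNoetherianObject.prop_of_is M),
    fun h => ⟨wellFoundedGT_subobject h⟩⟩

end Groth.Agent.QCohAb92
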