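import Groth.Agent.QCohAb92.Grothendieck
import Groth.Agent.KFlatLib.Scheme.ClosedPush

/-!
# Consequences of the existence of the coherator
-/

set_option autoImplicit false

universe u

open CategoryTheory CategoryTheory.Limits AlgebraicGeometry

namespace Groth.Agent.QCohAb92

open Groth.Agent.QCoh

variable {X Y : Scheme.{u}}

/-- The inverse image functor on quasi-coherent modules. -/
noncomputable abbrev pullF (f : X ⟶ Y) : QCohCat.QCoh Y ⥤ QCohCat.QCoh X :=
  ObjectProperty.lift (QCohCat.isQCoh X) ((QCohCat.isQCoh Y).ι ⋙ Scheme.Modules.pullback f)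
    (fun M => isQCoh_pullback f M.property)

/-- The direct image functor on quasi-coherent modules. -/
noncomputable abbrev pushF (f : X ⟶ Y) [QuasiCompact f] [QuasiSeparated f] :
    QCohCat.QCoh X ⥤ QCohCat.QCoh Y :=
  ObjectProperty.lift (QCohCat.isQCoh Y) ((QCohCat.isQCoh X).ι ⋙ Scheme.Modules.pushforward f)
    (fun M => isQCoh_pushforward f M.property)

/-- Inverse image is left adjoint to direct image on quasi-coherent modules. -/
noncomputable def pullPushAdj (f : X ⟶ Y) [QuasiCompact f] [QuasiSeparated f] : pullF f ⊣ pushF f :=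
  (Scheme.Modules.pullbackPushforwardAdjunction f).restrictFullyFaithful
    (QCohCat.isQCoh Y).fullyFaithfulι (QCohCat.isQCoh X).fullyFaithfulι (Iso.refl _) (Iso.refl _)

theorem quasiSeparated_of_qcqs (f : X ⟶ Y) [QuasiSeparatedSpace X] : QuasiSeparated f :=
  QuasiSeparated.of_quasiSeparatedSpace f

theorem quasiCompact_of_qcqs (f : X ⟶ Y) [CompactSpace X] [QuasiSeparatedSpace Y] : QuasiCompact f :=
  QuasiCompact.of_comp f (terminal.from Y)

/-- Coherators commute with direct images. -/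
theorem nonempty_coherator_push_iso (f : X ⟶ Y) [QuasiCompact f] [QuasiSeparated f]
    (QX : X.Modules ⥤ QCohCat.QCoh X) (adjX : (QCohCat.isQCoh X).ι ⊣ QX)
    (QY : Y.Modules ⥤ QCohCat.QCoh Y) (adjY : (QCohCat.isQCoh Y).ι ⊣ QY) :
    Nonempty ((QX ⋙ (QCohCat.isQCoh X).ι ⋙ Scheme.Modules.pushforward f) ≅
      (Scheme.Modules.pushforward f ⋙ QY ⋙ (QCohCat.isQCoh Y).ι)) := by
  let a : pullF f ⋙ (QCohCat.isQCoh X).ι ⊣ QX ⋙ pushF f := (pullPushAdj f).comp adjX
  let b : (QCohCat.isQCoh Y).ι ⋙ Scheme.Modules.pullback f ⊣ Scheme.Modules.pushforward f ⋙ QY :=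
    adjY.comp (Scheme.Modules.pullbackPushforwardAdjunction f)
  let e : QX ⋙ pushF f ≅ Scheme.Modules.pushforward f ⋙ QY :=
    a.rightAdjointUniq (b.ofNatIsoLeft (Iso.refl _))
  exact ⟨(Functor.associator QX (pushF f) (QCohCat.isQCoh Y).ι) ≪≫ Functor.isoWhiskerRight e (QCohCat.isQCoh Y).ι⟩

/-- The direct image along a closed immersion of quasi-coherent modules has a right adjoint. -/
theorem isLeftAdjoint_pushF_of_isClosedImmersion (f : X ⟶ Y) [IsClosedImmersion f] :
    (pushF f).IsLeftAdjoint := by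
  haveI : PreservesColimitsOfSize.{u, u} (Scheme.Modules.pushforward f) :=
    ⟨fun {K} _ => Groth.Agent.KFlatLib.preservesColimitsOfShape_push f K⟩
  haveI : PreservesColimitsOfSize.{u, u} (QCohCat.isQCoh X).ι := preservesColimits_ι X
  haveI : PreservesColimitsOfSize.{u, u} (pushF f ⋙ (QCohCat.isQCoh Y).ι) :=
    inferInstanceAs (PreservesColimitsOfSize.{u, u} ((QCohCat.isQCoh X).ι ⋙ Scheme.Modules.pushforward f))
  haveI : PreservesColimitsOfSize.{u, u} (pushF f) :=
    preservesColimits_of_reflects_of_preserves (pushF f) (QCohCat.isQCoh Y).ι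
  exact isLeftAdjoint_of_preservesColimits X _

/-- The largest quasi-coherent submodule. -/
theorem exists_largest_qcoh_submodule {F G : X.Modules} (hF : Coh.IsQCoh F) (j : G ⟶ F) [Mono j] :
    ∃ (G' : X.Modules) (k : G' ⟶ G), Coh.IsQCoh G' ∧ Mono k ∧
      ∀ H : X.Modules, Coh.IsQCoh H → Function.Bijective (fun φ : H ⟶ G' => φ ≫ k) := by
  haveI := isLeftAdjoint_ι X
  let adj := Adjunction.ofIsLeftAdjoint (QCohCat.isQCoh X).ι
  let G' := (QCohCat.isQCoh X).ι.rightAdjoint.obj G
  let k : G'.obj ⟶ G := adj.counit.app G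
  have hbij : ∀ H : X.Modules, Coh.IsQCoh H → Function.Bijective (fun φ : H ⟶ G'.obj => φ ≫ k) := by
    intro H hH
    have h := ((QCohCat.isQCoh X).fullyFaithfulι.homEquiv (X := ⟨H, hH⟩) (Y := G')).symm.trans
      (adj.homEquiv ⟨H, hH⟩ G).symm
    have : (fun φ : H ⟶ G'.obj => φ ≫ k) =
        fun φ => (adj.homEquiv ⟨H, hH⟩ G).symm (ObjectProperty.homMk φ) := funext fun φ => by
      rw [Adjunction.homEquiv_counit]; rfl
    rw [this]
    exact (adj.homEquiv ⟨H, hH⟩ G).symm.bijective.comp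
      ⟨fun a b hab => congrArg InducedCategory.Hom.hom hab, fun ψ => ⟨ψ.hom, rfl⟩⟩
  refine ⟨G'.obj, k, G'.property, ?_, hbij⟩
  refine Preadditive.mono_of_kernel_zero ((hbij _ ?_).1 ?_)
  · exact (isQCoh_iff_iso (kernelCompMono k j)).1 (isQCoh_kernel G'.property hF (k ≫ j))
  · simp [kernel.condition]

end Groth.Agent.QCohAb92
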