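import Groth.Agent.QCohAb92.Abelian
import Groth.Agent.QCoh.ExtendFT

/-!
# Quasi-coherent modules are unions of quasi-coherent submodules of bounded size
-/

set_option autoImplicit false

universe u

open CategoryTheory CategoryTheory.Limits AlgebraicGeometry TopologicalSpace Opposite

namespace Groth.Agent.QCohAb92

open Groth.Agent.QCoh

variable {X : Scheme.{u}}

/-- A chosen affine open around a point. -/
noncomputable def aff (X : Scheme.{u}) (x : X) : X.Opens := (exists_affine_mem x).choose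

theorem isAffineOpen_aff (x : X) : IsAffineOpen (aff X x) := (exists_affine_mem x).choose_spec.1

theorem mem_aff (x : X) : x ∈ aff X x := (exists_affine_mem x).choose_spec.2

/-- The index types of the enlarged families of generators: they do not depend on a module. -/
inductive Gen (X : Scheme.{u}) : X → Type u
  | seed (i : X) : Gen X i
  | step (i j : X) (f : Γ(X, aff X i)) (g : Γ(X, aff X j)) (h : X.basicOpen g = X.basicOpen f)
      (a : Gen X i) : Gen X j

variable {M : X.Modules} (hM : Coh.IsQCoh M) (s : ∀ i : X, Γ(M, aff X i))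

theorem basicOpen_le_aff {i j : X} (f : Γ(X, aff X i)) (g : Γ(X, aff X j))
    (h : X.basicOpen g = X.basicOpen f) : X.basicOpen g ≤ aff X i :=
  h.le.trans (X.basicOpen_le f)

/-- A chosen denominator-free multiple of a section over a basic open. -/
noncomputable def lift' {i j : X} (f : Γ(X, aff X i)) (g : Γ(X, aff X j))
    (h : X.basicOpen g = X.basicOpen f) (m : Γ(M, aff X i)) : Γ(M, aff X j) :=
  (exists_pow_smul_eq_map hM (isAffineOpen_aff j) g
    (rs M (basicOpen_le_aff f g h) m)).choose_spec.choose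

/-- The generators attached to seeds. -/
noncomputable def val : {i : X} → Gen X i → Γ(M, aff X i)
  | _, .seed i => s i
  | _, .step _ _ f g h a => lift' hM f g h (val a)

/-- The family of generators on one affine open. -/
noncomputable abbrev genSet (i : X) : Set Γ(M, aff X i) := Set.range (val hM s (i := i))

theorem rs_val_mem_span {i j : X} (f : Γ(X, aff X i)) (g : Γ(X, aff X j))
    (h : X.basicOpen g = X.basicOpen f) (a : Gen X i) :
    rs M (basicOpen_le_aff f g h) (val hM s a) ∈
      Submodule.span Γ(X, X.basicOpen g) (rs M (X.basicOpen_le g) '' genSet hM s j) := by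
  set ex := exists_pow_smul_eq_map hM (isAffineOpen_aff j) g (rs M (basicOpen_le_aff f g h) (val hM s a))
  have hspec := ex.choose_spec.choose_spec
  have hu := (isUnit_rf_basicOpen g).pow ex.choose
  have h1 : rf X (X.basicOpen_le g) g ^ ex.choose • rs M (basicOpen_le_aff f g h) (val hM s a) ∈
      Submodule.span Γ(X, X.basicOpen g) (rs M (X.basicOpen_le g) '' genSet hM s j) := by
    refine Submodule.subset_span ⟨val hM s (.step i j f g h a), ⟨_, rfl⟩, ?_⟩
    exact hspec
  obtain ⟨c, hc⟩ := hu.exists_left_inv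
  have h2 := Submodule.smul_mem _ c h1
  rwa [← mul_smul, hc, one_smul] at h2

/-- The submodule of the sections lying locally in the span of all the families. -/
noncomputable def gabberSub : SubMod M where
  mem O := ⨅ i : X, (spanSub (genSet hM s i)).mem O
  map_mem {U V} h {t} ht := by
    simp only [Submodule.mem_iInf] at ht ⊢
    exact fun i => (spanSub _).map_mem h (ht i)
  of_locally O t ht := by
    simp only [Submodule.mem_iInf]
    refine fun i => (spanSub _).of_locally O t fun x hx => ?_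
    obtain ⟨V, h, hxV, hV⟩ := ht x hx
    simp only [Submodule.mem_iInf] at hV
    exact ⟨V, h, hxV, hV i⟩

theorem mem_gabberSub_of_spanSub {k : X} {O : X.Opens} (hO : O ≤ aff X k) {t : Γ(M, O)}
    (ht : t ∈ (spanSub (genSet hM s k)).mem O) : t ∈ (gabberSub hM s).mem O := by
  refine Submodule.mem_iInf _ |>.2 fun i => fun x hx hxi => ?_
  obtain ⟨P, hPO, hPk, hxP, hP⟩ := ht x hx (hO hx)
  obtain ⟨f, g, hfg, hxf⟩ :=
    exists_basicOpen_le_affine_inter (isAffineOpen_aff k) (isAffineOpen_aff i) x ⟨hO hx, hxi⟩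
  set Q : X.Opens := P ⊓ X.basicOpen g
  have hQg : Q ≤ X.basicOpen g := inf_le_right
  have hQi : Q ≤ aff X i := hQg.trans (X.basicOpen_le g)
  refine ⟨Q, inf_le_left.trans hPO, hQi, ⟨hxP, hfg ▸ hxf⟩, ?_⟩
  have h1 := span_image_rs_le hPk (inf_le_left : Q ≤ P) hP
  rw [rs_rs] at h1
  refine Submodule.span_le.2 ?_ h1
  rintro _ ⟨_, ⟨a, rfl⟩, rfl⟩
  have h2 := span_image_rs_le (X.basicOpen_le g) hQg (rs_val_mem_span hM s f g hfg.symm a)
  rw [rs_rs] at h2
  exact h2

theorem mem_gabberSub_iff {k : X} {O : X.Opens} (hO : O ≤ aff X k) {t : Γ(M, O)} :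
    t ∈ (gabberSub hM s).mem O ↔ t ∈ (spanSub (genSet hM s k)).mem O :=
  ⟨fun h => (Submodule.mem_iInf _).1 h k, mem_gabberSub_of_spanSub hM s hO⟩

theorem mem_span_of_gabberSub {k : X} {D : X.Opens} (hD : IsAffineOpen D) (hDk : D ≤ aff X k)
    {t : Γ(M, D)} (ht : t ∈ (gabberSub hM s).mem D) :
    t ∈ Submodule.span Γ(X, D) (rs M hDk '' genSet hM s k) := by
  refine mem_span_of_locally hM hD _ t fun x hx => ?_
  obtain ⟨P, hPD, hPk, hxP, hP⟩ := (mem_gabberSub_iff hM s hDk).1 ht x hx (hDk hx)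
  refine ⟨P, hPD, hxP, ?_⟩
  rw [Set.image_image]
  simpa only [rs_rs] using hP

theorem span_le_gabberSub {k : X} {D : X.Opens} (hDk : D ≤ aff X k) :
    Submodule.span Γ(X, D) (rs M hDk '' genSet hM s k) ≤ (gabberSub hM s).mem D := by
  refine Submodule.span_le.2 ?_
  rintro _ ⟨a, ha, rfl⟩
  exact (gabberSub hM s).map_mem hDk (mem_gabberSub_of_spanSub hM s le_rfl (mem_spanSub ha))

theorem seed_mem (i : X) : s i ∈ (gabberSub hM s).mem (aff X i) :=
  mem_gabberSub_of_spanSub hM s le_rfl (mem_spanSub ⟨.seed i, rfl⟩)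

theorem exists_pow_smul_mem_gabberSub {V : X.Opens} (hV : IsAffineOpen V) (f : Γ(X, V)) (z : Γ(M, V))
    (hz : rs M (X.basicOpen_le f) z ∈ (gabberSub hM s).mem (X.basicOpen f)) :
    ∃ m : ℕ, f ^ m • z ∈ (gabberSub hM s).mem V := by
  have hloc : ∀ x : V, ∃ (D : X.Opens) (hD : D ≤ V) (m : ℕ), (x : X) ∈ D ∧
      rs M hD (f ^ m • z) ∈ (gabberSub hM s).mem D := by
    intro x
    obtain ⟨a, b, hab, hxa⟩ :=
      exists_basicOpen_le_affine_inter hV (isAffineOpen_aff x.1) x.1 ⟨x.2, mem_aff x.1⟩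
    set D : X.Opens := X.basicOpen a
    have hDV : D ≤ V := X.basicOpen_le a
    have hDk : D ≤ aff X x.1 := hab.le.trans (X.basicOpen_le b)
    have hDaff : IsAffineOpen D := hV.basicOpen a
    have hle : X.basicOpen (rf X hDV f) ≤ X.basicOpen f := by
      rw [Scheme.basicOpen_res]; exact inf_le_right
    have h1 : rs M (X.basicOpen_le (rf X hDV f)) (rs M hDV z) ∈
        (gabberSub hM s).mem (X.basicOpen (rf X hDV f)) := by
      rw [rs_rs, ← rs_rs (X.basicOpen_le f) hle]
      exact (gabberSub hM s).map_mem hle hz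
    have h2 := mem_span_of_gabberSub hM s (hDaff.basicOpen _)
      ((X.basicOpen_le (rf X hDV f)).trans hDk) h1
    obtain ⟨m, hm⟩ := exists_pow_smul_mem_span hM hDaff (rf X hDV f) (rs M hDk '' genSet hM s x.1) (rs M hDV z)
      (by rw [Set.image_image]; simpa only [rs_rs] using h2)
    refine ⟨D, hDV, m, hxa, span_le_gabberSub hM s hDk ?_⟩
    rw [rs_smul, rf, map_pow]
    exact hm
  choose D hDV m hxD hD using hloc
  obtain ⟨t, ht⟩ := hV.isCompact.elim_finite_subcover (fun x : V => (D x : Set X)) (fun x => (D x).2)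
    (fun y hy => Set.mem_iUnion.2 ⟨⟨y, hy⟩, hxD ⟨y, hy⟩⟩)
  refine ⟨t.sup m, (gabberSub hM s).of_locally V _ fun y hy => ?_⟩
  obtain ⟨x, hx⟩ := Set.mem_iUnion.1 (ht hy)
  obtain ⟨hxt, hyx⟩ := Set.mem_iUnion.1 hx
  refine ⟨D x, hDV x, hyx, ?_⟩
  show rs M (hDV x) _ ∈ _
  rw [show t.sup m = (t.sup m - m x) + m x from (Nat.sub_add_cancel (Finset.le_sup hxt)).symm, pow_add,
    mul_smul, rs_smul]
  exact Submodule.smul_mem _ _ (hD x)

theorem isQCoh_gabberSub : Coh.IsQCoh (gabberSub hM s).toModules := by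
  set N := gabberSub hM s
  refine isQCoh_of_sections (fun V hV f t => ?_) (fun V hV f t ht => ?_)
  · obtain ⟨n, z, hz⟩ := exists_pow_smul_eq_map hM hV f (N.ι.app _ t)
    have hzN : rs M (X.basicOpen_le f) z ∈ N.mem (X.basicOpen f) := by
      rw [rs, hz]
      exact Submodule.smul_mem _ _ (N.ι_app_mem _ t)
    obtain ⟨m, hm⟩ := exists_pow_smul_mem_gabberSub hM s hV f z hzN
    obtain ⟨r, hr⟩ := N.exists_app_eq hm
    refine ⟨m + n, r, N.ι_app_injective _ ?_⟩
    rw [ι_app_smul, map_app_comm, hr]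
    show rs M _ (f ^ m • z) = _
    rw [rs_smul, rs, hz, pow_add, mul_smul]
    simp only [rf, map_pow]
  · obtain ⟨n, hn⟩ := exists_pow_smul_eq_zero hM hV f (N.ι.app _ t) (by
      rw [← map_app_comm, ht, map_zero])
    exact ⟨n, N.ι_app_injective _ (by rw [ι_app_smul, hn, map_zero])⟩

end Groth.Agent.QCohAb92
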