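import Groth.Agent.QCoh.AnnIdeal
import Groth.Agent.QCoh.FT
import Groth.Agent.HTopCov.AlmostBlowUp
import Groth.Agent.S6283

/-!
# The scheme theoretic support commutes with flat base change
-/

set_option autoImplicit false

universe u

set_option backward.isDefEq.respectTransparency false
set_option backward.isDefEq.respectTransparency.types false

open CategoryTheory CategoryTheory.Limits AlgebraicGeometry TopologicalSpace Opposite
open scoped TensorProduct

namespace Groth.Agent.QCohAb92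

open Groth.Agent.QCoh

theorem annihilator_pullback_of_flat {Y X : Scheme.{u}} (f : Y ⟶ X) [Flat f] (F : X.Modules)
    (hq : Coh.IsQCoh F) (hft : CohB1.IsFT F) (J : X.IdealSheafData)
    (hJ : ∀ U : X.affineOpens, J.ideal U = Module.annihilator Γ(X, U.1) Γ(F, U.1)) (V : Y.affineOpens) :
    (J.comap f).ideal V = Module.annihilator Γ(Y, V.1) Γ((Scheme.Modules.pullback f).obj F, V.1) := by
  let N := (Scheme.Modules.pullback f).obj F
  have hloc : ∀ y : Y, ∃ (W : Y.affineOpens), y ∈ W.1 ∧ Module.Finite Γ(Y, W.1) Γ(N, W.1) ∧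
      (J.comap f).ideal W = Module.annihilator Γ(Y, W.1) Γ(N, W.1) := by
    intro y
    obtain ⟨_, ⟨U, hU, rfl⟩, hxU, -⟩ :=
      X.isBasis_affineOpens.exists_subset_of_mem_open (Set.mem_univ (f y)) isOpen_univ
    obtain ⟨_, ⟨W, hW, rfl⟩, hyW, hWU⟩ :=
      Y.isBasis_affineOpens.exists_subset_of_mem_open (show y ∈ f ⁻¹ᵁ U from hxU) (f ⁻¹ᵁ U).2
    replace hU : IsAffineOpen U := hU
    replace hW : IsAffineOpen W := hW
    letI : Algebra Γ(X, U) Γ(Y, W) := (f.appLE U W hWU).hom.toAlgebra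
    letI : Module Γ(X, U) Γ(N, W) := Module.compHom _ (f.appLE U W hWU).hom
    haveI : IsScalarTower Γ(X, U) Γ(Y, W) Γ(N, W) :=
      ⟨fun a b c => mul_smul ((f.appLE U W hWU).hom a) b c⟩
    haveI := finite_of_isFT hq hft hU
    haveI : Module.Flat Γ(X, U) Γ(Y, W) := Flat.flat_appLE f hU hW hWU
    let l : Γ(F, U) →ₗ[Γ(X, U)] Γ(N, W) :=
      { toFun := pullSec f F hWU
        map_add' := pullSec_add f F hWU
        map_smul' := pullSec_smul f F hWU }
    have h : IsBaseChange Γ(Y, W) l :=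
      isBaseChange_pullback hU f hW hq hWU (fun r => rfl) l fun x => rfl
    refine ⟨⟨W, hW⟩, hyW, Module.Finite.equiv h.equiv, ?_⟩
    rw [Groth.Agent.HTopCov.ideal_comap_appLE f J ⟨U, hU⟩ ⟨W, hW⟩ hWU, hJ, ← h.equiv.annihilator_eq]
    exact (Groth.Agent.S6283.result (S := Γ(Y, W)) Γ(F, U)).2 inferInstance
  choose W hyW hfin heq using hloc
  have hcov : IsOpenCover (fun y : Y => (W y).1) :=
    eq_top_iff.2 fun y _ => Opens.mem_iSup.2 ⟨y, hyW y⟩
  have hNq : Coh.IsQCoh N := isQCoh_pullback f hq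
  have hNft : CohB1.IsFT N :=
    isFT_of_finite hNq (fun y : Y => (W y).1) hcov (fun y => (W y).2) hfin
  have h := Scheme.IdealSheafData.ext_of_iSup_eq_top (I := J.comap f) (J := annIdeal hNq hNft) W hcov
    (fun y => heq y)
  exact congrArg (fun K : Y.IdealSheafData => K.ideal V) h

end Groth.Agent.QCohAb92
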