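import Groth.Agent.RingPO.Recognize
import Mathlib

/-!
# The scheme theoretic union of two closed subschemes as a pushout
-/

set_option autoImplicit false

universe u

open CategoryTheory CategoryTheory.Limits AlgebraicGeometry

namespace Groth.Agent.QCohAb92

variable {S : Scheme.{u}}

theorem isPullback_inclusion {I J : S.IdealSheafData} (h : I ≤ J) (U : S.affineOpens) :
    IsPullback (J.subschemeCover.f U)
      (Spec.map (CommRingCat.ofHom (Ideal.Quotient.factor (h U))))
      (Scheme.IdealSheafData.inclusion h) (I.subschemeCover.f U) := by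
  haveI : IsOpenImmersion (J.subschemeCover.f U) := J.subschemeCover.map_prop U
  haveI : IsOpenImmersion (I.subschemeCover.f U) := I.subschemeCover.map_prop U
  refine (@IsOpenImmersion.isPullback _ _ _ _ _ (J.subschemeCover.f U) (I.subschemeCover.f U) _
    (J.subschemeCover.map_prop U) (I.subschemeCover.map_prop U) (Scheme.IdealSheafData.subSchemeCover_map_inclusion h U) ?_).flip
  · show Scheme.IdealSheafData.inclusion h ⁻¹ᵁ (I.subschemeCover.f U).opensRange = (J.subschemeCover.f U).opensRange
    rw [Scheme.IdealSheafData.opensRange_subschemeCover_map, Scheme.IdealSheafData.opensRange_subschemeCover_map,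
      ← Scheme.Hom.comp_preimage, Scheme.IdealSheafData.inclusion_subschemeι]

theorem isFibreProd_inf_sup {R : Type u} [CommRing R] (a b c d : Ideal R) (hc : c = a ⊔ b) (hd : d = a ⊓ b) :
    RingPO.IsFibreProd (Ideal.Quotient.factor (show a ≤ c from hc ▸ le_sup_left))
      (Ideal.Quotient.factor (show b ≤ c from hc ▸ le_sup_right))
      (Ideal.Quotient.factor (show d ≤ a from hd ▸ inf_le_left))
      (Ideal.Quotient.factor (show d ≤ b from hd ▸ inf_le_right)) := by
  subst hc hd
  refine ⟨Ideal.Quotient.factor_surjective _, fun z => ?_, fun z z' h₁ h₂ => ?_, fun y x h => ?_⟩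
  · obtain ⟨z, rfl⟩ := Ideal.Quotient.mk_surjective z
    simp
  · obtain ⟨z, rfl⟩ := Ideal.Quotient.mk_surjective z
    obtain ⟨z', rfl⟩ := Ideal.Quotient.mk_surjective z'
    simp only [Ideal.Quotient.factor_mk, Ideal.Quotient.mk_eq_mk_iff_sub_mem] at h₁ h₂ ⊢
    exact ⟨h₁, h₂⟩
  · obtain ⟨x, rfl⟩ := Ideal.Quotient.mk_surjective x
    obtain ⟨y, rfl⟩ := Ideal.Quotient.mk_surjective y
    simp only [Ideal.Quotient.factor_mk, Ideal.Quotient.mk_eq_mk_iff_sub_mem] at h
    obtain ⟨i, hi, j, hj, hij⟩ := Submodule.mem_sup.1 h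
    refine ⟨Ideal.Quotient.mk _ (x - i), ?_, ?_⟩
    · simp only [Ideal.Quotient.factor_mk, Ideal.Quotient.mk_eq_mk_iff_sub_mem]
      rw [show x - i - x = -i by ring]
      exact neg_mem hi
    · simp only [Ideal.Quotient.factor_mk, Ideal.Quotient.mk_eq_mk_iff_sub_mem]
      rw [show x - i - y = j by linear_combination -hij]
      exact hj

theorem isPushout_union (I J : S.IdealSheafData) :
    IsPushout (Scheme.IdealSheafData.inclusion (le_sup_left : I ≤ I ⊔ J))
      (Scheme.IdealSheafData.inclusion (le_sup_right : J ≤ I ⊔ J))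
      (Scheme.IdealSheafData.inclusion (inf_le_left : I ⊓ J ≤ I))
      (Scheme.IdealSheafData.inclusion (inf_le_right : I ⊓ J ≤ J)) := by
  refine RingPO.isPushout_of_models ?_ (κ := S.affineOpens) (fun U =>
    { A := Γ(S, U) ⧸ (I ⊔ J).ideal U
      A' := Γ(S, U) ⧸ I.ideal U
      B := Γ(S, U) ⧸ J.ideal U
      C := Γ(S, U) ⧸ (I ⊓ J).ideal U
      p := Ideal.Quotient.factor ((le_sup_left : I ≤ I ⊔ J) U)
      q := Ideal.Quotient.factor ((le_sup_right : J ≤ I ⊔ J) U)
      α := Ideal.Quotient.factor ((inf_le_left : I ⊓ J ≤ I) U)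
      β := Ideal.Quotient.factor ((inf_le_right : I ⊓ J ≤ J) U)
      h := isFibreProd_inf_sup _ _ _ _ rfl rfl
      φ := (I ⊓ J).subschemeCover.f U
      hφ := (I ⊓ J).subschemeCover.map_prop U
      u := I.subschemeCover.f U
      v := J.subschemeCover.f U
      w := (I ⊔ J).subschemeCover.f U
      hw₁ := Scheme.IdealSheafData.subSchemeCover_map_inclusion _ U
      hw₂ := Scheme.IdealSheafData.subSchemeCover_map_inclusion _ U
      hu := isPullback_inclusion _ U
      hv := isPullback_inclusion _ U }) ?_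
  · rw [Scheme.IdealSheafData.inclusion_comp, Scheme.IdealSheafData.inclusion_comp]
  · intro x
    obtain ⟨y, hy⟩ := (I ⊓ J).subschemeCover.covers x
    exact ⟨(I ⊓ J).subschemeCover.idx x, y, hy⟩

end Groth.Agent.QCohAb92
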