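import Groth.Agent.QCohAb92.Restrict

/-!
# Modules zero on an intersection of two opens
-/

set_option autoImplicit false

universe u

open CategoryTheory CategoryTheory.Limits AlgebraicGeometry TopologicalSpace Opposite

namespace Groth.Agent.QCohAb92

open Groth.Agent.QCoh

theorem exists_sub_zero_on_open {X : Scheme.{u}} (U V : X.Opens) [QuasiCompact U.ι]
    (F : X.Modules) (hF : Coh.IsQCoh F) (h : IsZero ((Scheme.Modules.restrictFunctor (U ⊓ V).ι).obj F)) :
    ∃ (A : X.Modules) (i : A ⟶ F), Mono i ∧ Coh.IsQCoh A ∧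
      IsZero ((Scheme.Modules.restrictFunctor U.ι).obj A) ∧
      IsZero ((Scheme.Modules.restrictFunctor V.ι).obj (cokernel i)) := by
  let η := (Scheme.Modules.restrictAdjunction U.ι).unit.app F
  have hP : Coh.IsQCoh ((Scheme.Modules.restrictFunctor U.ι ⋙ Scheme.Modules.pushforward U.ι).obj F) :=
    isQCoh_pushforward U.ι (isQCoh_restrict U.ι hF)
  have hη : Coh.IsQCoh (kernel η) := isQCoh_kernel hF hP η
  have hzV : (Scheme.Modules.restrictFunctor V.ι).map η = 0 := by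
    refine Scheme.Modules.hom_ext _ _ fun W => ?_
    ext m
    show η.app (V.ι ''ᵁ W) (show Γ(F, V.ι ''ᵁ W) from m) = 0
    rw [Scheme.Modules.restrictAdjunction_unit_app_app]
    set O := U.ι ''ᵁ (U.ι ⁻¹ᵁ (V.ι ''ᵁ W)) with hO
    have hOUV : O ≤ U ⊓ V := le_inf (fun x ⟨y, _, hy⟩ => hy ▸ y.2)
      ((U.ι.image_preimage_le _).trans fun x ⟨y, _, hy⟩ => hy ▸ y.2)
    have hle : (U ⊓ V).ι ''ᵁ ((U ⊓ V).ι ⁻¹ᵁ O) ≤ O := (U ⊓ V).ι.image_preimage_le O
    have hge : O ≤ (U ⊓ V).ι ''ᵁ ((U ⊓ V).ι ⁻¹ᵁ O) := fun x hx => ⟨⟨x, hOUV hx⟩, hx, rfl⟩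
    suffices H : ∀ a : Γ(F, O), a = 0 from H _
    intro a
    have h0 : (show Γ(F.restrict (U ⊓ V).ι, (U ⊓ V).ι ⁻¹ᵁ O) from F.presheaf.map (homOfLE hle).op a) = 0 :=
      congr(($(h.eq_of_src (𝟙 _) 0)).app ((U ⊓ V).ι ⁻¹ᵁ O)
        (show Γ(F.restrict (U ⊓ V).ι, (U ⊓ V).ι ⁻¹ᵁ O) from F.presheaf.map (homOfLE hle).op a))
    exact (map_id' (M := F) (homOfLE le_rfl) a).symm.trans
      ((map_map (M := F) (homOfLE hge) (homOfLE hle) a).symm.trans
        ((congrArg (F.presheaf.map (homOfLE hge).op) h0).trans (map_zero (F.presheaf.map (homOfLE hge).op).hom)))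
  refine ⟨kernel η, kernel.ι η, inferInstance, hη, ?_, ?_⟩
  · refine IsZero.of_iso ?_ (PreservesKernel.iso (Scheme.Modules.restrictFunctor U.ι) η)
    haveI : IsIso ((Scheme.Modules.restrictFunctor U.ι).map η) :=
      inferInstanceAs (IsIso ((Scheme.Modules.restrictFunctor U.ι).map
        ((Scheme.Modules.restrictAdjunction U.ι).unit.app F)))
    exact IsZero.of_iso (isZero_zero _) (kernel.ofMono ((Scheme.Modules.restrictFunctor U.ι).map η))
  · have hiso : IsIso ((Scheme.Modules.restrictFunctor V.ι).map (kernel.ι η)) := by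
      let l := (kernelIsKernel η)
      have hl := KernelFork.mapIsLimit _ l (Scheme.Modules.restrictFunctor V.ι)
      exact KernelFork.IsLimit.isIso_ι _ hl hzV
    exact (isZero_restrict_iff (isQCoh_cokernel hη hF _) V).2 ((isIso_restrict_iff _ hη hF V).1 hiso).2

end Groth.Agent.QCohAb92
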